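import Groth.Agent.Lib.AlgSpDiv.Descent
import Groth.Agent.Lib.RelDiv.ExactFlat
import Groth.Agent.Lib.RelDiv.Cartier
import Mathlib.AlgebraicGeometry.Morphisms.Affine
import Mathlib.Algebra.Category.Ring.Constructions

/-!
# Base change of relative effective Cartier divisors
-/

set_option autoImplicit false
set_option linter.style.haveILetI false
universe u
open CategoryTheory CategoryTheory.Limits AlgebraicGeometry TopologicalSpace TensorProduct

namespace Groth.Agent.Lib.AlgSpDiv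

open Groth.Agent.Lib.Ideal.EffCartier Groth.Agent.Lib.Ideal.Comap

/-- A regular element with flat quotient stays regular after base change. -/
theorem inl_mem_nonZeroDivisors {A B A' P : CommRingCat.{u}} {φ : A ⟶ B} {ψ : A ⟶ A'}
    {inl : B ⟶ P} {inr : A' ⟶ P} (h : IsPushout φ ψ inl inr) {s : B} (hs : s ∈ nonZeroDivisors B)
    (hfl : ((Ideal.Quotient.mk (Ideal.span {s})).comp φ.hom).Flat) :
    inl s ∈ nonZeroDivisors P := by
  letI := φ.hom.toAlgebra
  letI := ψ.hom.toAlgebra
  haveI : Module.Flat A (B ⧸ Ideal.span {s}) := by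
    rw [← RingHom.flat_algebraMap_iff]
    exact hfl
  let i : B →ₗ[A] B := LinearMap.mulLeft A s
  let p : B →ₗ[A] B ⧸ Ideal.span {s} := (Ideal.Quotient.mkₐ A (Ideal.span {s})).toLinearMap
  have hinj : Function.Injective i := fun a b hab =>
    (mul_cancel_left_mem_nonZeroDivisors hs).mp hab
  have hex : Function.Exact i p := by
    intro b
    change Ideal.Quotient.mk _ b = 0 ↔ ∃ a, s * a = b
    rw [Ideal.Quotient.eq_zero_iff_mem, Ideal.mem_span_singleton]
    exact ⟨fun ⟨a, ha⟩ => ⟨a, ha.symm⟩, fun ⟨a, ha⟩ => ⟨a, ha.symm⟩⟩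
  have hr : Function.Injective (i.rTensor A') :=
    (LinearMap.lTensor_inj_iff_rTensor_inj A' i).mp
      (RelDiv.ExactFlat.lTensor_injective hinj hex Ideal.Quotient.mk_surjective A')
  let e := h.isoIsPushout _ _ (CommRingCat.isPushout_tensorProduct A B A')
  have hel : ∀ b : B, e.hom (inl b) = (b ⊗ₜ[A] (1 : A') : B ⊗[A] A') := fun b =>
    congr($(h.inl_isoIsPushout_hom _ _ (CommRingCat.isPushout_tensorProduct A B A')).hom b)
  have hmul : ∀ x : B ⊗[A] A', i.rTensor A' x = (s ⊗ₜ[A] (1 : A')) * x := by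
    intro x
    induction x using TensorProduct.induction_on with
    | zero => rw [map_zero, mul_zero]
    | tmul b a => simp [i]
    | add x y hx hy => rw [map_add, hx, hy, mul_add]
  refine mem_nonZeroDivisors_of_eq_zero fun b hb => ?_
  refine e.commRingCatIsoToRingEquiv.injective ?_
  rw [map_zero]
  refine hr ?_
  rw [map_zero, hmul]
  change (s ⊗ₜ[A] (1 : A') : B ⊗[A] A') * e.hom b = 0
  rw [← hel, ← map_mul, hb, map_zero]

/-- The affine case. -/
theorem isEffCartier_comap_of_relFlat_affine {U T T' W : Scheme.{u}} [IsAffine U] [IsAffine T]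
    [IsAffine T'] {f : U ⟶ T} {g : T' ⟶ T} {p : W ⟶ U} {q : W ⟶ T'} (sq : IsPullback p q f g)
    (I : U.IdealSheafData) [Flat (I.subschemeι ≫ f)] {s : Γ(U, ⊤)}
    (hs : s ∈ nonZeroDivisors Γ(U, ⊤)) (hI : I.ideal ⟨⊤, isAffineOpen_top U⟩ = Ideal.span {s}) :
    BlowUp.IsEffCartierIdeal (I.comap p) := by
  haveI : IsAffine W := .of_isIso sq.isoPullback.hom
  have h2 := (I.subschemeι ≫ f).flat_appLE (isAffineOpen_top T)
    ((isAffineOpen_top U).preimage I.subschemeι) (fun x hx => trivial)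
  have h3 : ((Ideal.Quotient.mk (I.ideal ⟨⊤, isAffineOpen_top U⟩)).comp f.appTop.hom).Flat := by
    have := (RelDiv.Cartier.appLE_subscheme f I RingHom.Flat.respectsIso ⊤
      ⟨⊤, isAffineOpen_top U⟩ le_rfl).mp h2
    rw [show f.appTop = f.appLE ⊤ ⊤ le_rfl from f.app_eq_appLE]
    exact this
  rw [hI] at h3
  intro w
  refine ⟨⟨⊤, isAffineOpen_top W⟩, trivial, p.appTop s,
    inl_mem_nonZeroDivisors (isPushout_appTop_of_isPullback sq) hs h3, ?_⟩
  rw [ideal_comap_top p I, hI, Ideal.map_span, Set.image_singleton]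

/-- Inverse images of relative effective Cartier divisors. -/
theorem isEffCartier_comap_of_relFlat {X T T' R : Scheme.{u}} {f : X ⟶ T} {g : T' ⟶ T} {p : R ⟶ X}
    {q : R ⟶ T'} (sq : IsPullback p q f g) {D : X.IdealSheafData}
    (hD : BlowUp.IsEffCartierIdeal D) [Flat (D.subschemeι ≫ f)] :
    BlowUp.IsEffCartierIdeal (D.comap p) := by
  intro r
  obtain ⟨V, hV, hrV, -⟩ := exists_isAffineOpen_mem_and_subset
    (show f (p r) ∈ (⊤ : T.Opens) from trivial)
  obtain ⟨U, hrU, hUV, s, hs, hIs⟩ := exists_gen hD (p r) (W := f ⁻¹ᵁ V) hrV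
  have hgr : q r ∈ g ⁻¹ᵁ V := by
    show g (q r) ∈ V
    rw [← Scheme.Hom.comp_apply, ← sq.w, Scheme.Hom.comp_apply]
    exact hrV
  obtain ⟨V', hV', hrV', hle⟩ := exists_isAffineOpen_mem_and_subset hgr
  have hV'V : V' ≤ g ⁻¹ᵁ V := fun z hz => hle hz
  haveI : IsAffine (U.1 : Scheme.{u}) := U.2
  haveI : IsAffine (V : Scheme.{u}) := hV
  haveI : IsAffine (V' : Scheme.{u}) := hV'
  let fU := f.resLE V U.1 hUV
  let gV := g.resLE V V' hV'V
  have hw : (pullback.fst fU gV ≫ U.1.ι) ≫ f = (pullback.snd fU gV ≫ V'.ι) ≫ g := by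
    rw [Category.assoc, Category.assoc, ← Scheme.Hom.resLE_comp_ι f hUV,
      ← Scheme.Hom.resLE_comp_ι g hV'V, pullback.condition_assoc]
  let j := sq.lift _ _ hw
  have hj : j = pullback.map fU gV f g U.1.ι V'.ι V.ι (Scheme.Hom.resLE_comp_ι f hUV)
      (Scheme.Hom.resLE_comp_ι g hV'V) ≫ sq.isoPullback.inv := by
    apply sq.hom_ext <;> simp [j, pullback.map, pullback.lift_fst, pullback.lift_snd]
  haveI : IsOpenImmersion j := by rw [hj]; infer_instance
  haveI hflatU : Flat ((D.comap U.1.ι).subschemeι ≫ fU) := by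
    have hflat : Flat ((D.comap U.1.ι).subschemeι ≫ U.1.ι ≫ f) := by
      rw [← Scheme.IdealSheafData.comapIso_hom_fst, Category.assoc, pullback.condition_assoc]
      infer_instance
    rw [← Scheme.Hom.resLE_comp_ι f hUV, ← Category.assoc] at hflat
    exact MorphismProperty.of_isPullback (P := @Flat)
      (IsPullback.of_horiz_isIso_mono (fst := 𝟙 _) (f := ((D.comap U.1.ι).subschemeι ≫ fU) ≫ V.ι)
        (g := V.ι) (snd := (D.comap U.1.ι).subschemeι ≫ fU) ⟨by simp⟩) hflat
  have hW : BlowUp.IsEffCartierIdeal ((D.comap p).comap j) := by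
    rw [← Scheme.IdealSheafData.comap_comp, sq.lift_fst, Scheme.IdealSheafData.comap_comp]
    refine isEffCartier_comap_of_relFlat_affine (IsPullback.of_hasPullback fU gV) _
      (s := U.1.topIso.inv s) ?_ ?_
    · refine mem_nonZeroDivisors_of_eq_zero fun b hb => ?_
      refine U.1.topIso.commRingCatIsoToRingEquiv.injective ?_
      rw [map_zero]
      refine (mul_left_mem_nonZeroDivisors_eq_zero_iff hs).mp ?_
      have := congrArg U.1.topIso.commRingCatIsoToRingEquiv hb
      rw [map_mul, map_zero] at this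
      convert this using 2
      exact (CategoryTheory.Iso.inv_hom_id_apply U.1.topIso s).symm
    · rw [ideal_comap_ι_top U D, hIs, Ideal.map_span, Set.image_singleton]
  obtain ⟨w, hw₁⟩ : r ∈ Set.range j := by
    have hr : sq.isoPullback.hom r ∈ Set.range (pullback.map fU gV f g U.1.ι V'.ι V.ι
        (Scheme.Hom.resLE_comp_ι f hUV) (Scheme.Hom.resLE_comp_ι g hV'V)) := by
      rw [Scheme.Pullback.range_map]
      refine ⟨?_, ?_⟩
      · rw [Set.mem_preimage, Scheme.Opens.range_ι, ← Scheme.Hom.comp_apply, sq.isoPullback_hom_fst]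
        exact hrU
      · rw [Set.mem_preimage, Scheme.Opens.range_ι, ← Scheme.Hom.comp_apply, sq.isoPullback_hom_snd]
        exact hrV'
    obtain ⟨w, hw'⟩ := hr
    refine ⟨w, ?_⟩
    rw [hj, Scheme.Hom.comp_apply, hw', ← Scheme.Hom.comp_apply, Iso.hom_inv_id]
    rfl
  obtain ⟨O, hwO, a, ha, hIa⟩ := hW w
  obtain ⟨O', hrO, b, hb, hbn⟩ := exists_gen_of_comap j (D.comap p) hwO hIa
  exact ⟨O', hw₁ ▸ hrO, b, hbn ha, hb⟩

end Groth.Agent.Lib.AlgSpDiv
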