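import Groth.Agent.Lib.AlgSpMor.SchImage.Main
import Groth.Agent.Lib.AlgSpMor.SchImage.Family

/-!
# Factorisation through a subspace cut out by an ideal sheaf
-/

set_option autoImplicit false
set_option linter.style.haveILetI false
universe u
open CategoryTheory CategoryTheory.Limits AlgebraicGeometry

namespace Groth.Agent.Lib.AlgSpDiv

open AlgSp (Sp yon RepWith IsAlgSpace Representable IdealEt IsCutOutBy EtOver)
open Groth.Agent.Lib.AlgSpace Groth.Agent.Lib.AlgSpMor Groth.Agent.Lib.AlgSpMor.SchImage

variable {S : Scheme.{u}} {X Z : Sp S} {i : Z ⟶ X}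

/-- A morphism from a scheme factors through the subspace cut out by `I` iff it kills `I`. -/
theorem exists_factor_iff (hX : IsAlgSpace X) {I : IdealEt X} (hZ : IsCutOutBy I i) {T : Over S}
    {h : (yon S).obj T ⟶ X} (hh : Representable h) :
    (∃ k : (yon S).obj T ⟶ Z, k ≫ i = h) ↔ I ≤ AlgSp.idealOfRep hh := by
  obtain ⟨hi, rfl⟩ := hZ
  constructor
  · rintro ⟨k, hk⟩ E hE
    haveI := hE
    rw [← ofIdealTop_le_iff, ofIdealTop_idealOfRep hi.1 E hE, ofIdealTop_idealOfRep hh E hE]
    exact ((cut_kerAt_self hi E.obj.hom).sees hk).le_kerAt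
  · intro hle
    obtain ⟨ι, O, π, hO, he, hs⟩ := exists_sigma_atlas hX
    obtain ⟨P, q, p, sq, hp⟩ := repWith_exists he h
    obtain ⟨p, rfl⟩ := (yon S).map_surjective p
    haveI : Etale q.left := hp
    haveI : Surjective q.left := repWith_property hs sq
    haveI := isLocallySurjective_yon_map q (fppfCover_mk q.left)
    have hIle : kerAt i π ≤ p.left.ker := by
      refine le_ker_of_family _ (fun j ↦ pullback.fst p (sigmaOverι O j)) (fun j ↦ ?_) (fun x ↦ ?_) _
        fun j ↦ ?_
      · exact MorphismProperty.of_isPullback (P := @Etale)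
          ((IsPullback.of_hasPullback p (sigmaOverι O j)).map (Over.forget S)).flip
          (inferInstanceAs (Etale (Sigma.ι (fun i ↦ (O i).left) j)))
      · obtain ⟨j, y, hy⟩ := (sigmaOpenCover fun i ↦ (O i).left).exists_eq (p.left x)
        obtain ⟨z, hz, -⟩ := Scheme.exists_preimage_of_isPullback
          ((IsPullback.of_hasPullback p (sigmaOverι O j)).map (Over.forget S)) x y hy.symm
        exact ⟨j, z, hz⟩
      · have hj : RepWith @Etale ((yon S).map (sigmaOverι O j) ≫ π) :=
          repWith_comp (repWith_etale_yon_map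
            (inferInstanceAs (Etale (Sigma.ι (fun i ↦ (O i).left) j)))) he
        let E : EtOver X := EtOver.mk ((yon S).map (sigmaOverι O j) ≫ π) hj
        haveI : IsAffine E.obj.left.left := hO j
        rw [pullback.condition, ← comap_le_ker_iff,
          ((cut_kerAt_self hi π).comap (sigmaOverι O j)).unique (cut_kerAt_self hi _)]
        have h1 := (ofIdealTop_le_iff _ _).mpr (hle E (hO j))
        rw [ofIdealTop_idealOfRep hi.1 E (hO j), ofIdealTop_idealOfRep hh E (hO j)] at h1
        refine h1.trans (sees_kerAt h _ _ (pullback.snd p (sigmaOverι O j))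
          ((yon S).map (pullback.fst p (sigmaOverι O j) ≫ q)) ?_)
        change _ = (yon S).map (pullback.snd p (sigmaOverι O j)) ≫ (yon S).map (sigmaOverι O j) ≫ π
        rw [← Category.assoc, ← Functor.map_comp, ← pullback.condition, Functor.map_comp,
          Functor.map_comp, Category.assoc, Category.assoc, ← sq.w]
    obtain ⟨a, ha⟩ := ((cut_kerAt_self hi π) P p).2 hIle
    have : Mono i := mono_of_closedImmersion hi
    obtain ⟨k, hk⟩ := exists_desc ((yon S).map q) (IsPullback.of_hasPullback _ _) a (by
      rw [← cancel_mono i, Category.assoc, Category.assoc, ha, sq.w, pullback.condition_assoc])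
    refine ⟨k, ?_⟩
    have : Epi ((yon S).map q) := inferInstance
    rw [← cancel_epi ((yon S).map q), reassoc_of% hk, ha, sq.w]

end Groth.Agent.Lib.AlgSpDiv
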