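import Groth.Agent.Lib.AlgSpDiv.Descent
import Groth.Agent.Lib.AlgSpMor.SchImage.Basic
import Groth.Agent.Lib.AlgSpMor.LocP
import Groth.Agent.Lib.AlgSpace.Points
import Groth.Agent.Lib.AlgSpace.OpenSub
import Groth.Prelude.Def_W4stk3spdivLocPr

/-!
# Effective Cartier divisors and locally principal subspaces of algebraic spaces
-/

set_option autoImplicit false
set_option linter.style.haveILetI false
universe u
open CategoryTheory CategoryTheory.Limits AlgebraicGeometry TopologicalSpace

namespace Groth.Agent.Lib.AlgSpDiv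

open AlgSp (Sp yon RepWith IsAlgSpace Points IsEffCartierSub IsLocPrincipalSub)
open Groth.Agent.Lib.AlgSpace Groth.Agent.Lib.AlgSpMor Groth.Agent.Lib.AlgSpMor.SchImage

variable {S : Scheme.{u}} {X D : Sp S} {i : D ⟶ X}

theorem mono_of_closed (hi : RepWith @IsClosedImmersion i) : Mono i :=
  mono_of_repWith (fun _ _ g (_ : IsClosedImmersion g) ↦ (inferInstance : Mono g)) hi

/-- A pullback square of a closed subscheme is an inverse image. -/
theorem cut_of_sq {T : Over S} {φ : (yon S).obj T ⟶ X} {I : T.left.IdealSheafData}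
    {fst : (yon S).obj (sub I) ⟶ D} (sq : IsPullback fst ((yon S).map (subι I)) i φ) :
    Cut i φ I := by
  have h := cut_of_isPullback sq
  rwa [ker_subι] at h

theorem isEffCartierSub_iff :
    IsEffCartierSub i ↔ RepWith @IsClosedImmersion i ∧
      ∃ (V : Over S) (φ : (yon S).obj V ⟶ X) (I : V.left.IdealSheafData),
        RepWith @Etale φ ∧ RepWith @Surjective φ ∧ Cut i φ I ∧ BlowUp.IsEffCartierIdeal I := by
  refine ⟨?_, ?_⟩
  · rintro ⟨hi, V, φ, I, fst, he, hs, sq, hI⟩
    exact ⟨hi, V, φ, I, he, hs, cut_of_sq sq, hI⟩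
  · rintro ⟨hi, V, φ, I, he, hs, hc, hI⟩
    have := mono_of_closed hi
    obtain ⟨fst, sq⟩ := hc.isPullback
    exact ⟨hi, V, φ, I, fst, he, hs, sq, hI⟩

theorem isLocPrincipalSub_iff :
    IsLocPrincipalSub i ↔ RepWith @IsClosedImmersion i ∧
      ∃ (V : Over S) (φ : (yon S).obj V ⟶ X) (I : V.left.IdealSheafData),
        RepWith @Etale φ ∧ RepWith @Surjective φ ∧ Cut i φ I ∧ Curv2.IsLocPrincipal I := by
  refine ⟨?_, ?_⟩
  · rintro ⟨hi, V, φ, I, fst, he, hs, sq, hI⟩
    exact ⟨hi, V, φ, I, he, hs, cut_of_sq sq, hI⟩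
  · rintro ⟨hi, V, φ, I, he, hs, hc, hI⟩
    have := mono_of_closed hi
    obtain ⟨fst, sq⟩ := hc.isPullback
    exact ⟨hi, V, φ, I, fst, he, hs, sq, hI⟩

theorem isLocPrincipalSub_of_isEffCartierSub (h : IsEffCartierSub i) : IsLocPrincipalSub i := by
  obtain ⟨hi, V, φ, I, fst, he, hs, sq, hI⟩ := h
  refine ⟨hi, V, φ, I, fst, he, hs, sq, fun x _ => ?_⟩
  obtain ⟨U, hx, f, -, hf⟩ := hI x
  exact ⟨U, hx, f, hf⟩

/-- Inverse images on a common refinement of two charts agree. -/
theorem comap_eq_of_comm {U V W : Over S} {φ : (yon S).obj U ⟶ X} {ψ : (yon S).obj V ⟶ X}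
    {p : W ⟶ U} {q : W ⟶ V} (w : (yon S).map p ≫ φ = (yon S).map q ≫ ψ)
    {I : U.left.IdealSheafData} {J : V.left.IdealSheafData} (hI : Cut i φ I) (hJ : Cut i ψ J) :
    I.comap p.left = J.comap q.left :=
  Cut.unique (hI.comap p) (w.symm ▸ hJ.comap q)

/-- On every etale chart the inverse image of an effective Cartier divisor is one. -/
theorem isEffCartier_of_cut (hX : IsAlgSpace X) (hD : IsEffCartierSub i) {U : Over S}
    {φ : (yon S).obj U ⟶ X} (hφ : RepWith @Etale φ) {I : U.left.IdealSheafData} (hI : Cut i φ I) :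
    BlowUp.IsEffCartierIdeal I := by
  obtain ⟨-, V, ψ, J, he, hs, hJ, hEff⟩ := isEffCartierSub_iff.1 hD
  obtain ⟨W, p, q, sq⟩ := exists_isPullback_yon hX.diag φ ψ
  haveI : Etale p.left := repWith_property he sq.flip
  haveI : Surjective p.left := repWith_property hs sq.flip
  haveI : Etale q.left := repWith_property hφ sq
  refine isEffCartier_of_comap p.left ?_
  rw [comap_eq_of_comm sq.w hI hJ]
  exact Ideal.EffCartier.isEffCartier_comap_of_flat q.left hEff

/-- On every scheme over the space the inverse image of a locally principal subspace is locally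
principal. -/
theorem isLocPrincipal_of_cut (hX : IsAlgSpace X) (hD : IsLocPrincipalSub i) {U : Over S}
    {φ : (yon S).obj U ⟶ X} {I : U.left.IdealSheafData} (hI : Cut i φ I) :
    Curv2.IsLocPrincipal I := by
  obtain ⟨-, V, ψ, J, he, hs, hJ, hEff⟩ := isLocPrincipalSub_iff.1 hD
  obtain ⟨W, p, q, sq⟩ := exists_isPullback_yon hX.diag φ ψ
  haveI : Etale p.left := repWith_property he sq.flip
  haveI : Surjective p.left := repWith_property hs sq.flip
  refine isLocPrincipal_of_comap p.left ?_
  rw [comap_eq_of_comm sq.w hI hJ]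
  exact isLocPrincipal_comap q.left hEff

/-- The points of the inverse image are the support of the ideal. -/
theorem preimage_range_eq_support (hi : RepWith @IsClosedImmersion i) {U : Over S}
    {φ : (yon S).obj U ⟶ X} {I : U.left.IdealSheafData} (hI : Cut i φ I) :
    Points.ofPt φ ⁻¹' Set.range (Points.map i) = (I.support : Set U.left) := by
  have := mono_of_closed hi
  obtain ⟨fst, sq⟩ := hI.isPullback
  rw [← Set.image_univ, preimage_image_map sq, Set.preimage_univ, Set.image_univ]
  exact I.range_subschemeι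

/-- An effective Cartier divisor is detected by affine charts around its points. -/
theorem isEffCartierSub_of_forall_nhd (hX : IsAlgSpace X) (hi : RepWith @IsClosedImmersion i)
    (h : ∀ x : Points D, ∃ (U : Over S) (a : (yon S).obj U ⟶ X) (u : ↥U.left)
      (I : U.left.IdealSheafData), RepWith @Etale a ∧ Points.ofPt a u = Points.map i x ∧
        Cut i a I ∧ BlowUp.IsEffCartierIdeal I) :
    IsEffCartierSub i := by
  obtain ⟨V, φ, he, hs⟩ := hX.atlas
  obtain ⟨I, hI⟩ := exists_cut hi φ
  refine isEffCartierSub_iff.2 ⟨hi, V, φ, I, he, hs, hI, fun v => ?_⟩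
  by_cases hv : v ∈ I.support
  · have hv' : v ∈ Points.ofPt φ ⁻¹' Set.range (Points.map i) := by
      rw [preimage_range_eq_support hi hI]; exact hv
    obtain ⟨x, hx⟩ := hv'
    obtain ⟨U, a, u, J, ha, hu, hJ, hEff⟩ := h x
    obtain ⟨W, p, q, sq⟩ := exists_isPullback_yon hX.diag φ a
    haveI : Etale p.left := repWith_property ha sq.flip
    haveI : Etale q.left := repWith_property he sq
    obtain ⟨w, hp, hq⟩ := (ofPt_eq_ofPt_iff_of_isPullback sq v u).1 (hx.symm.trans hu.symm)
    have hW : BlowUp.IsEffCartierIdeal (I.comap p.left) := by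
      rw [comap_eq_of_comm sq.w hI hJ]
      exact Ideal.EffCartier.isEffCartier_comap_of_flat q.left hEff
    obtain ⟨O, hwO, g, hg, hgI⟩ := hW w
    obtain ⟨O', hvO, a', ha', han⟩ := exists_gen_of_comap p.left I hwO hgI
    exact ⟨O', hp ▸ hvO, a', han hg, ha'⟩
  · obtain ⟨O, hO, hvO, hle⟩ := exists_isAffineOpen_mem_and_subset
      (show v ∈ (I.support.compl : V.left.Opens) from hv)
    refine ⟨⟨O, hO⟩, hvO, 1, Submonoid.one_mem _, ?_⟩
    rw [Ideal.span_singleton_one, ← PrimeSpectrum.zeroLocus_empty_iff_eq_top]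
    refine (Set.image_eq_empty (f := hO.fromSpec)).mp ?_
    refine (hO.fromSpec_image_zeroLocus _).trans ?_
    refine (Scheme.IdealSheafData.coe_support_inter I ⟨O, hO⟩).symm.trans ?_
    exact Set.disjoint_iff_inter_eq_empty.mp
      (Set.disjoint_left.mpr fun z hzs hzU => hle hzU hzs)

/-- Inverse images of effective Cartier divisors under flat morphisms. -/
theorem isEffCartierSub_of_flat {Y P : Sp S} {j : P ⟶ Y} (hY : IsAlgSpace Y) (hX : IsAlgSpace X)
    {f : Y ⟶ X} (hf : AlgSp.LocP @Flat f) (hD : IsEffCartierSub i) {fst : P ⟶ D}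
    (sq : IsPullback fst j i f) : IsEffCartierSub j := by
  obtain ⟨hi, V, ψ, I, he, hs, hI, hEff⟩ := isEffCartierSub_iff.1 hD
  obtain ⟨U, a, h, ha, has, w⟩ := LocP.exists_chart_over hY hX f he hs
  haveI : Flat h.left := hf a ψ h ha he w
  refine isEffCartierSub_iff.2 ⟨repWith_baseChange sq hi, U, a, I.comap h.left, ha, has, ?_,
    Ideal.EffCartier.isEffCartier_comap_of_flat h.left hEff⟩
  rw [cut_iff_of_isPullback sq, w]
  exact hI.comap h

end Groth.Agent.Lib.AlgSpDiv
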