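import Groth.Agent.Lib.AlgSpDiv.Basic
import Groth.Agent.S8853

/-!
# Complements of divisors
-/

set_option autoImplicit false
set_option linter.style.haveILetI false
universe u
open CategoryTheory CategoryTheory.Limits AlgebraicGeometry TopologicalSpace

namespace Groth.Agent.Lib.AlgSpDiv

open AlgSp (Sp yon RepWith IsAlgSpace Points IsEffCartierSub IsLocPrincipalSub)
open Groth.Agent.Lib.AlgSpace Groth.Agent.Lib.AlgSpMor Groth.Agent.Lib.AlgSpMor.SchImage

variable {S : Scheme.{u}} {X D U : Sp S} {i : D ⟶ X} {j : U ⟶ X}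

/-- The chart of the complement is the complement of the support. -/
theorem opensRange_eq_compl (hi : RepWith @IsClosedImmersion i)
    (hU : Set.range (Points.map j) = (Set.range (Points.map i))ᶜ) {T W : Over S}
    {φ : (yon S).obj T ⟶ X} {w : W ⟶ T} {fst : (yon S).obj W ⟶ U}
    (sq : IsPullback fst ((yon S).map w) j φ) [IsOpenImmersion w.left] {I : T.left.IdealSheafData}
    (hI : Cut i φ I) : w.left.opensRange = I.support.compl := by
  ext1
  have h1 := preimage_image_map sq Set.univ
  rw [Set.image_univ, Set.preimage_univ, Set.image_univ] at h1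
  change Set.range w.left = (I.support : Set T.left)ᶜ
  rw [← h1, hU, Set.preimage_compl, preimage_range_eq_support hi hI]

theorem isAffineMor_compl (hX : IsAlgSpace X) (hZ : IsLocPrincipalSub i)
    (hj : RepWith @IsOpenImmersion j)
    (hU : Set.range (Points.map j) = (Set.range (Points.map i))ᶜ) : AlgSp.IsAffineMor j := by
  intro T hT g
  obtain ⟨W, w, fst, sq, hw⟩ := repWith_exists hj g
  haveI : IsOpenImmersion w.left := hw
  obtain ⟨I, hI⟩ := exists_cut hZ.1 g
  haveI := Groth.Agent.S8853.result I (isLocPrincipal_of_cut hX hZ hI)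
  haveI : IsAffine T.left := hT
  haveI : IsAffine (w.left.opensRange : Scheme.{u}) := by
    rw [opensRange_eq_compl hZ.1 hU sq hI]
    exact isAffine_of_isAffineHom (Scheme.Opens.ι I.support.compl)
  exact ⟨W, w, fst, sq, .of_isIso w.left.isoOpensRange.hom⟩

theorem isSchematicallyDense_compl_support {T : Scheme.{u}} {I : T.IdealSheafData}
    (hI : BlowUp.IsEffCartierIdeal I) :
    CInt.IsSchematicallyDense (I.support.compl : T.Opens) := by
  intro V a b hab
  rw [← sub_eq_zero]
  refine Ideal.EffCartier.eq_zero_of_germ_eq_zero_off hI _ fun x hx hxs => ?_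
  have hx' : x ∈ V ⊓ I.support.compl := ⟨hx, hxs⟩
  rw [← TopCat.Presheaf.germ_res_apply T.presheaf (homOfLE inf_le_left) x hx', map_sub,
    sub_eq_zero.mpr hab, map_zero]

theorem isSchDense_compl (hD : IsEffCartierSub i)
    (hj : RepWith @IsOpenImmersion j)
    (hU : Set.range (Points.map j) = (Set.range (Points.map i))ᶜ) : AlgSp.IsSchDense j := by
  obtain ⟨hi, V, φ, I, he, hs, hI, hEff⟩ := isEffCartierSub_iff.1 hD
  obtain ⟨W, w, fst, sq, hw⟩ := repWith_exists hj φ
  haveI : IsOpenImmersion w.left := hw
  have hmem : w.left.opensRange = I.support.compl := opensRange_eq_compl hi hU sq hI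
  let e : Over.mk (w.left.opensRange.ι ≫ V.hom) ≅ W := Over.isoMk w.left.isoOpensRange.symm (by
    simp only [Over.mk_hom, Iso.symm_hom]
    rw [← Over.w w, Scheme.Hom.isoOpensRange_inv_comp_assoc])
  refine ⟨hj, V, φ, w.left.opensRange, (yon S).map e.hom ≫ fst, he, hs, ?_, ?_⟩
  · refine IsPullback.of_iso sq ((yon S).mapIso e.symm) (Iso.refl _) (Iso.refl _) (Iso.refl _)
      (by simp [← Functor.map_comp_assoc]) ?_ (by simp) (by simp)
    simp only [Iso.refl_hom, Category.comp_id, Functor.mapIso_hom, Iso.symm_hom, ← Functor.map_comp]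
    congr 1
    ext1
    simp [e]
  · rw [hmem]
    exact isSchematicallyDense_compl_support hEff

end Groth.Agent.Lib.AlgSpDiv
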