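import Groth.Agent.Lib.Ideal.EffCartier
import Groth.Prelude.Def_CurvBase
import Mathlib.AlgebraicGeometry.Morphisms.UniversallyOpen
import Mathlib.RingTheory.Flat.FaithfullyFlat.Algebra

/-!
# Descent of locally principal and effective Cartier ideal sheaves along flat open covers
-/

set_option autoImplicit false
set_option linter.style.haveILetI false
universe u
open CategoryTheory AlgebraicGeometry TopologicalSpace

namespace Groth.Agent.Lib.AlgSpDiv

open Groth.Agent.Lib.Ideal.EffCartier Groth.Agent.Lib.Ideal.Comap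

/-- If the extension of `J` is generated by `g`, then near a prime it is generated by an element
of `J`. -/
theorem exists_mem_generator {A B : Type*} [CommRing A] [CommRing B] (φ : A →+* B) (J : Ideal A)
    {g : B} (hg : J.map φ = Ideal.span {g}) (q : Ideal B) [hq : q.IsPrime] :
    ∃ a ∈ J, ∃ c ∉ q, g * c ∈ Ideal.span {φ a} := by
  by_contra hcon
  push Not at hcon
  have hle : J.map φ ≤ q * Ideal.span {g} := by
    rw [Ideal.map_le_iff_le_comap]
    intro a ha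
    obtain ⟨c, hc⟩ := Ideal.mem_span_singleton'.mp (hg ▸ Ideal.mem_map_of_mem φ ha)
    rw [Ideal.mem_comap, ← hc]
    refine Ideal.mul_mem_mul (by_contra fun hcq => hcon a ha c hcq ?_) (Ideal.mem_span_singleton_self g)
    rw [mul_comm g c, hc]
    exact Ideal.mem_span_singleton_self _
  obtain ⟨t, ht, htg⟩ := Ideal.mem_mul_span_singleton.mp (hle (hg ▸ Ideal.mem_span_singleton_self g))
  refine hq.ne_top ((Ideal.eq_top_iff_one q).mpr ?_)
  have h1 : (1 - t) ∈ q := by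
    by_contra h
    refine hcon 0 J.zero_mem (1 - t) h ?_
    rw [map_zero, mul_sub, mul_one, mul_comm g t, htg, sub_self]
    exact Ideal.zero_mem _
  simpa using q.add_mem h1 ht

variable {X Y : Scheme.{u}}

/-- Faithful flatness of restrictions to affine opens. -/
theorem faithfullyFlat_appLE (f : X ⟶ Y) [Flat f] {U : Y.Opens} {V : X.Opens} (hU : IsAffineOpen U)
    (hV : IsAffineOpen V) (e : V ≤ f ⁻¹ᵁ U) (hs : ∀ x ∈ U, ∃ z ∈ V, f z = x) :
    letI := (f.appLE U V e).hom.toAlgebra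
    Module.FaithfullyFlat Γ(Y, U) Γ(X, V) := by
  letI := (f.appLE U V e).hom.toAlgebra
  haveI : Module.Flat Γ(Y, U) Γ(X, V) := f.flat_appLE hU hV e
  refine Module.FaithfullyFlat.of_comap_surjective fun P => ?_
  have hP : hU.fromSpec P ∈ U := hU.range_fromSpec.subset ⟨P, rfl⟩
  obtain ⟨z, hz, hzx⟩ := hs _ hP
  obtain ⟨Q, rfl⟩ := hV.range_fromSpec.superset hz
  refine ⟨Q, hU.fromSpec.isOpenEmbedding.injective ?_⟩
  change hU.fromSpec (Spec.map (f.appLE U V e) Q) = hU.fromSpec P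
  rw [← hzx, ← Scheme.Hom.comp_apply, hU.SpecMap_appLE_fromSpec f hV e, Scheme.Hom.comp_apply]

/-- A generator of the inverse image ideal along a flat open map gives one of the ideal. -/
theorem exists_gen_of_comap (f : X ⟶ Y) [Flat f] [LocallyOfFinitePresentation f]
    (I : Y.IdealSheafData) {y : X} {V₀ : X.affineOpens} (hy : y ∈ V₀.1) {g : Γ(X, V₀.1)}
    (hg : (I.comap f).ideal V₀ = Ideal.span {g}) :
    ∃ U : Y.affineOpens, f y ∈ U.1 ∧ ∃ a : Γ(Y, U.1), I.ideal U = Ideal.span {a} ∧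
      (g ∈ nonZeroDivisors Γ(X, V₀.1) → a ∈ nonZeroDivisors Γ(Y, U.1)) := by
  obtain ⟨U₀, V, hyU₀, hyV, -, hVV₀, hVU₀⟩ := exists_affine_le_preimage f y hy
    (show f y ∈ (⊤ : Y.Opens) from trivial)
  set g' := X.presheaf.map (homOfLE hVV₀).op g with hg'
  have hgV : (I.comap f).ideal V = Ideal.span {g'} := ideal_eq_span_of_le hVV₀ hg
  have hJ : (I.ideal U₀).map (f.appLE U₀.1 V.1 hVU₀).hom = Ideal.span {g'} :=
    (ideal_comap f I U₀ V hVU₀).symm.trans hgV
  obtain ⟨a, ha, c, hc, hca⟩ := exists_mem_generator _ _ hJ (V.2.primeIdealOf ⟨y, hyV⟩).asIdeal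
  have hyc : y ∈ X.basicOpen c := (mem_basicOpen_iff_notMem_prime V.2 hyV c).mpr hc
  have hopen : IsOpen (f '' (X.basicOpen c : Set X)) := f.isOpenMap _ (X.basicOpen c).2
  obtain ⟨h, hle, hyh⟩ := U₀.2.exists_basicOpen_le
    (V := ⟨f '' (X.basicOpen c : Set X), hopen⟩) ⟨f y, ⟨y, hyc, rfl⟩⟩ hyU₀
  let U₁ : Y.affineOpens := ⟨Y.basicOpen h, U₀.2.basicOpen h⟩
  let d : Γ(X, V.1) := c * f.appLE U₀.1 V.1 hVU₀ h
  let W : X.affineOpens := ⟨X.basicOpen d, V.2.basicOpen d⟩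
  have hWeq : X.basicOpen d = X.basicOpen c ⊓ f ⁻¹ᵁ Y.basicOpen h := by
    rw [Scheme.basicOpen_mul, Scheme.basicOpen_appLE, ← inf_assoc, inf_eq_left.mpr (X.basicOpen_le c)]
  have hWV : W.1 ≤ V.1 := X.basicOpen_le d
  have hWU : W.1 ≤ f ⁻¹ᵁ U₁.1 := fun z hz => (hWeq.le hz).2
  have hU₁ : U₁.1 ≤ U₀.1 := Y.basicOpen_le h
  have hs : ∀ x ∈ U₁.1, ∃ z ∈ W.1, f z = x := fun x hx => by
    obtain ⟨z, hz, rfl⟩ := hle hx
    exact ⟨z, hWeq.ge (show z ∈ X.basicOpen c ⊓ f ⁻¹ᵁ Y.basicOpen h from ⟨hz, hx⟩), rfl⟩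
  letI := (f.appLE U₁.1 W.1 hWU).hom.toAlgebra
  haveI := faithfullyFlat_appLE f U₁.2 W.2 hWU hs
  set a₁ := Y.presheaf.map (homOfLE hU₁).op a with ha₁
  let r : Γ(X, V.1) →+* Γ(X, W.1) := (X.presheaf.map (homOfLE hWV).op).hom
  have hcomp : algebraMap Γ(Y, U₁.1) Γ(X, W.1) a₁ = r (f.appLE U₀.1 V.1 hVU₀ a) := by
    simp only [RingHom.algebraMap_toAlgebra, r, a₁, ← ConcreteCategory.comp_apply,
      Scheme.Hom.map_appLE, Scheme.Hom.appLE_map]
  have hW : (I.ideal U₁).map (algebraMap Γ(Y, U₁.1) Γ(X, W.1)) = Ideal.span {r g'} :=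
    (ideal_comap f I U₁ W hWU).symm.trans (ideal_eq_span_of_le hWV hgV)
  have hcu : IsUnit (r c) := by
    have h1 : X.basicOpen d ≤ X.basicOpen c := fun z hz =>
      (hWeq.le hz).1
    have h2 := (RingedSpace.isUnit_res_basicOpen X.toSheafedSpace c).map
      (X.presheaf.map (homOfLE h1).op).hom
    convert h2 using 1
    change _ = (X.presheaf.map _ ≫ X.presheaf.map _) c
    rw [← Functor.map_comp]
    rfl
  obtain ⟨s, hs'⟩ := Ideal.mem_span_singleton'.mp hca
  have hgr : r g' * r c = r s * r (f.appLE U₀.1 V.1 hVU₀ a) := by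
    rw [← map_mul, ← map_mul, ← hs']
  have hamem : a₁ ∈ I.ideal U₁ := I.map_ideal hU₁ ▸ Ideal.mem_map_of_mem _ ha
  have hspan : Ideal.span {r g'} = Ideal.span {algebraMap Γ(Y, U₁.1) Γ(X, W.1) a₁} := by
    refine le_antisymm ?_ (by
      rw [← hW, Ideal.span_singleton_le_iff_mem]; exact Ideal.mem_map_of_mem _ hamem)
    rw [← Ideal.span_singleton_mul_right_unit hcu, hgr, hcomp, Ideal.span_singleton_le_iff_mem]
    exact Ideal.mul_mem_left _ _ (Ideal.mem_span_singleton_self _)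
  refine ⟨U₁, hyh, a₁, ?_, fun hgn => ?_⟩
  · rw [← Ideal.comap_map_eq_self_of_faithfullyFlat (B := Γ(X, W.1)) (I.ideal U₁), hW, hspan,
      ← Set.image_singleton, ← Ideal.map_span, Ideal.comap_map_eq_self_of_faithfullyFlat]
  · have hn : r g' * r c ∈ nonZeroDivisors Γ(X, W.1) :=
      Submonoid.mul_mem _ (res_mem_nonZeroDivisors V.2 hWV (res_mem_nonZeroDivisors V₀.2 hVV₀ hgn))
        hcu.mem_nonZeroDivisors
    rw [hgr, mul_mem_nonZeroDivisors, ← hcomp] at hn
    refine mem_nonZeroDivisors_of_eq_zero fun b hb => ?_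
    have := congrArg (algebraMap Γ(Y, U₁.1) Γ(X, W.1)) hb
    rw [map_mul, map_zero] at this
    exact (map_eq_zero_iff _ (FaithfulSMul.algebraMap_injective Γ(Y, U₁.1) Γ(X, W.1))).mp
      ((mul_left_mem_nonZeroDivisors_eq_zero_iff hn.2).mp this)

theorem isEffCartier_of_comap (f : X ⟶ Y) [Flat f] [LocallyOfFinitePresentation f] [Surjective f]
    {I : Y.IdealSheafData} (h : BlowUp.IsEffCartierIdeal (I.comap f)) :
    BlowUp.IsEffCartierIdeal I := by
  intro x
  obtain ⟨y, rfl⟩ := f.surjective x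
  obtain ⟨V, hyV, g, hg, hIg⟩ := h y
  obtain ⟨U, hxU, a, ha, han⟩ := exists_gen_of_comap f I hyV hIg
  exact ⟨U, hxU, a, han hg, ha⟩

/-- A locally principal ideal is principal near every point. -/
theorem exists_principal {I : X.IdealSheafData} (h : Curv2.IsLocPrincipal I) (x : X) :
    ∃ U : X.affineOpens, x ∈ U.1 ∧ ∃ g : Γ(X, U.1), I.ideal U = Ideal.span {g} := by
  by_cases hx : x ∈ I.support
  · exact h x hx
  · obtain ⟨U, hU, hxU, hle⟩ := exists_isAffineOpen_mem_and_subset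
      (show x ∈ (I.support.compl : X.Opens) from hx)
    refine ⟨⟨U, hU⟩, hxU, 1, ?_⟩
    rw [Ideal.span_singleton_one, ← PrimeSpectrum.zeroLocus_empty_iff_eq_top]
    refine (Set.image_eq_empty (f := hU.fromSpec)).mp ?_
    refine (hU.fromSpec_image_zeroLocus _).trans ?_
    refine (Scheme.IdealSheafData.coe_support_inter I ⟨U, hU⟩).symm.trans ?_
    exact Set.disjoint_iff_inter_eq_empty.mp
      (Set.disjoint_left.mpr fun z hzs hzU => hle hzU hzs)

theorem isLocPrincipal_comap (f : X ⟶ Y) {I : Y.IdealSheafData} (h : Curv2.IsLocPrincipal I) :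
    Curv2.IsLocPrincipal (I.comap f) := by
  intro x _
  obtain ⟨U, hxU, g, hg⟩ := exists_principal h (f x)
  obtain ⟨V, hV, hxV, hle⟩ := exists_isAffineOpen_mem_and_subset (show x ∈ f ⁻¹ᵁ U.1 from hxU)
  refine ⟨⟨V, hV⟩, hxV, f.appLE U.1 V (fun z hz => hle hz) g, ?_⟩
  rw [ideal_comap f I U ⟨V, hV⟩ (fun z hz => hle hz), hg, Ideal.map_span, Set.image_singleton]

theorem isLocPrincipal_of_comap (f : X ⟶ Y) [Flat f] [LocallyOfFinitePresentation f] [Surjective f]
    {I : Y.IdealSheafData} (h : Curv2.IsLocPrincipal (I.comap f)) : Curv2.IsLocPrincipal I := by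
  intro x _
  obtain ⟨y, rfl⟩ := f.surjective x
  obtain ⟨V, hyV, g, hg⟩ := exists_principal h y
  obtain ⟨U, hxU, a, ha, -⟩ := exists_gen_of_comap f I hyV hg
  exact ⟨U, hxU, a, ha⟩

end Groth.Agent.Lib.AlgSpDiv
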