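import Groth.Agent.Lib.AlgSpDiv.Basic
import Groth.Agent.Lib.AlgSpMor.SchImage.Family

/-!
# Inverse images of subspaces cut out by ideal sheaves
-/

set_option autoImplicit false
set_option linter.style.haveILetI false
universe u
open CategoryTheory CategoryTheory.Limits AlgebraicGeometry TopologicalSpace

namespace Groth.Agent.Lib.AlgSpDiv

open AlgSp (Sp yon RepWith IsAlgSpace IdealEt IsCutOutBy EtOver)
open Groth.Agent.Lib.AlgSpace Groth.Agent.Lib.AlgSpMor Groth.Agent.Lib.AlgSpMor.SchImage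

variable {S : Scheme.{u}} {X Z : Sp S} {i : Z ⟶ X}

/-- An open of a chart, as a morphism over the base. -/
noncomputable abbrev openι {V : Over S} (O : V.left.Opens) : Over.mk (O.ι ≫ V.hom) ⟶ V :=
  Over.homMk O.ι rfl

instance {V : Over S} (O : V.left.Opens) : Etale (openι O).left := inferInstanceAs (Etale O.ι)

/-- The value of the ideal of a closed subspace on an affine open of a chart. -/
theorem ideal_eq_of_isCutOutBy {I : IdealEt X} (h : IsCutOutBy I i) {V : Over S}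
    {φ : (yon S).obj V ⟶ X} (he : RepWith @Etale φ) {J : V.left.IdealSheafData} (hJ : Cut i φ J)
    (O : V.left.affineOpens) :
    I.ideal (EtOver.mk ((yon S).map (openι O.1) ≫ φ) (LocP.repWith_etale_comp _ he)) O.2 =
      Ideal.map O.1.topIso.inv.hom (J.ideal O) := by
  obtain ⟨hi, rfl⟩ := h
  let E : EtOver X := EtOver.mk ((yon S).map (openι O.1) ≫ φ) (LocP.repWith_etale_comp _ he)
  haveI : IsAffine (O.1 : Scheme.{u}) := O.2
  change (AlgSp.idealOfRep hi.1).ideal E O.2 = _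
  have h1 := ofIdealTop_idealOfRep hi.1 E O.2
  have h2 : kerAt i E.obj.hom = J.comap (openι O.1).left :=
    (cut_kerAt_self hi _).unique (hJ.comap (openι O.1))
  rw [h2] at h1
  have h3 := congrArg (fun K : Scheme.IdealSheafData (O.1 : Scheme.{u}) =>
    K.ideal ⟨⊤, isAffineOpen_top _⟩) h1
  refine (((Scheme.IdealSheafData.equivOfIsAffine (X := (O.1 : Scheme.{u}))).right_inv
    ((AlgSp.idealOfRep hi.1).ideal E O.2)).symm.trans h3).trans ?_
  exact Ideal.Comap.ideal_comap_ι_top O J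

/-- Inverse images turn products of ideals into products. -/
theorem eq_mul_of_isCutOutBy {Z₁ Z₂ : Sp S} {i₁ : Z₁ ⟶ X} {i₂ : Z₂ ⟶ X} {I₁ I₂ : IdealEt X}
    (h₁ : IsCutOutBy I₁ i₁) (h₂ : IsCutOutBy I₂ i₂) (h : IsCutOutBy (I₁ * I₂) i) {V : Over S}
    {φ : (yon S).obj V ⟶ X} (he : RepWith @Etale φ) {J₁ J₂ J : V.left.IdealSheafData}
    (hJ₁ : Cut i₁ φ J₁) (hJ₂ : Cut i₂ φ J₂) (hJ : Cut i φ J) : J = J₁ * J₂ := by
  refine Scheme.IdealSheafData.ext (funext fun O => ?_)
  have e := ideal_eq_of_isCutOutBy h he hJ O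
  rw [AlgSp.IdealEt.mul_ideal, ideal_eq_of_isCutOutBy h₁ he hJ₁ O,
    ideal_eq_of_isCutOutBy h₂ he hJ₂ O, ← Ideal.map_mul] at e
  rw [Scheme.IdealSheafData.ideal_mul, Pi.mul_apply]
  have e' := congrArg (Ideal.map O.1.topIso.hom.hom) e
  rw [Ideal.map_map, Ideal.map_map, ← CommRingCat.hom_comp, Iso.inv_hom_id, CommRingCat.hom_id,
    Ideal.map_id, Ideal.map_id] at e'
  exact e'.symm

end Groth.Agent.Lib.AlgSpDiv
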