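import Groth.Agent.Lib.AlgSpDiv.Basic
import Groth.Agent.S1685
import Groth.Agent.H80.PuncturedExt
import Groth.Prelude.Def_Pi1

/-!
# Serre conditions for effective Cartier divisors on algebraic spaces
-/

set_option autoImplicit false
set_option linter.style.haveILetI false
universe u
open CategoryTheory CategoryTheory.Limits AlgebraicGeometry

namespace Groth.Agent.Lib.AlgSpDiv

open AlgSp (Sp yon RepWith IsAlgSpace IsEffCartierSub EtaleLocally)
open Groth.Agent.Lib.AlgSpace Groth.Agent.Lib.AlgSpMor.SchImage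

variable {S : Scheme.{u}} {X D : Sp S} {i : D ⟶ X}

/-- `(S_k)` for all local rings of a scheme. -/
abbrev SerreS (k : ℕ) (U : Scheme.{u}) : Prop :=
  ∀ x : ↥U, min (k : WithBot ℕ∞) (ringKrullDim ↥(U.presheaf.stalk x)) ≤
    ((LocCoh.depth ↥(U.presheaf.stalk x) ↥(U.presheaf.stalk x) : ℕ∞) : WithBot ℕ∞)

theorem serre_of_isEffCartierSub (hX : IsAlgSpace X) {k : ℕ}
    (h : EtaleLocally (fun U => IsLocallyNoetherian U ∧ SerreS k U) X) (hD : IsEffCartierSub i) :
    EtaleLocally (fun V => IsLocallyNoetherian V ∧ SerreS (k - 1) V) D := by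
  obtain ⟨U, φ, he, hs, hU, hk⟩ := h
  obtain ⟨I, hI⟩ := exists_cut hD.1 φ
  have := mono_of_closed hD.1
  obtain ⟨fst, sq⟩ := hI.isPullback
  haveI := hU
  refine ⟨sub I, fst, repWith_baseChange sq.flip he, repWith_baseChange sq.flip hs,
    LocallyOfFiniteType.isLocallyNoetherian I.subschemeι, fun d => ?_⟩
  exact Groth.Agent.S1685.result U.left k hk I (isEffCartier_of_cut hX hD he hI) d

/-- Noetherian normal local rings satisfy `(S_2)`. -/
theorem serre_two_of_normal {U : Scheme.{u}} [IsLocallyNoetherian U] (h : Pi1.IsNormalScheme U) :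
    SerreS 2 U := by
  intro x
  obtain ⟨_, _⟩ := h x
  rcases le_or_gt (2 : WithBot ℕ∞) (ringKrullDim ↥(U.presheaf.stalk x)) with h2 | h2
  · exact (min_le_left _ _).trans
      (WithBot.coe_le_coe.mpr (H80.PuncturedExt.two_le_depth h2))
  refine (min_le_right _ _).trans ?_
  rcases eq_or_ne (LocCoh.depth ↥(U.presheaf.stalk x) ↥(U.presheaf.stalk x)) 0 with h0 | h0
  · rw [h0, ringKrullDim_eq_zero_of_isField (CartierDescent.isField_of_depth_eq_zero h0)]
    exact le_rfl
  · refine le_trans ?_ (WithBot.coe_le_coe.mpr (Order.one_le_iff_pos.mpr (pos_iff_ne_zero.mpr h0)))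
    revert h2
    generalize ringKrullDim ↥(U.presheaf.stalk x) = n
    intro h2
    induction n with
    | bot => exact bot_le
    | coe a =>
      refine WithBot.coe_le_coe.mpr ?_
      have : a < 2 := WithBot.coe_lt_coe.mp h2
      exact ENat.lt_coe_add_one_iff.mp (by exact_mod_cast this)

end Groth.Agent.Lib.AlgSpDiv
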