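import Groth.Agent.Lib.AlgSpDiv.Prod
import Groth.Agent.Lib.AlgSpMor.Codim
import Groth.Agent.Lib.AlgSpRed.Stalk
import Groth.Agent.Lib.AssPt.Basic
import Groth.Agent.Lib.Henselian.WeakAssBaseChange
import Groth.Prelude.Def_AlgSpModX

/-!
# Weakly associated points of the structure sheaf
-/

set_option autoImplicit false
set_option linter.style.haveILetI false
universe u
open CategoryTheory CategoryTheory.Limits AlgebraicGeometry TopologicalSpace

namespace Groth.Agent.Lib.AlgSpDiv

open AlgSp (Sp yon RepWith IsAlgSpace Points IsEffCartierSub EtOver sectModEt annSect primeAtPt)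
open Groth.Agent.Lib.AlgSpace Groth.Agent.Lib.AlgSpMor Groth.Agent.Lib.AlgSpMor.SchImage

variable {S : Scheme.{u}} {X : Sp S}

/-- The function of a section of the structure sheaf. -/
noncomputable def unitVal {E : EtOver X} (s : sectModEt (AlgSp.unitModEt X) E) :
    Γ(E.obj.left.left, ⊤) :=
  ULift.down s

/-- A function as a section of the structure sheaf. -/
noncomputable def unitSect (E : EtOver X) (b : Γ(E.obj.left.left, ⊤)) :
    sectModEt (AlgSp.unitModEt X) E :=
  ULift.up b

@[simp] theorem unitVal_unitSect (E : EtOver X) (b : Γ(E.obj.left.left, ⊤)) :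
    unitVal (unitSect E b) = b := rfl

/-- The annihilator of a function, as a section of the structure sheaf. -/
theorem mem_annSect_unit {E : EtOver X} (s : sectModEt (AlgSp.unitModEt X) E)
    (a : Γ(E.obj.left.left, ⊤)) : a ∈ annSect s ↔ a * unitVal s = 0 := by
  rw [AlgSp.mem_annSect_iff]
  exact ⟨fun h => congrArg ULift.down h, fun h => ULift.ext _ _ h⟩

/-- A function on a chart vanishing at no weakly associated point is regular. -/
theorem mem_nonZeroDivisors_of_weakAss (E : EtOver X) [hE : IsAffine E.obj.left.left]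
    {t : Γ(E.obj.left.left, ⊤)}
    (h : ∀ u, AlgSp.IsWeakAssOn (AlgSp.unitModEt X) E u → u ∈ E.obj.left.left.basicOpen t) :
    t ∈ nonZeroDivisors Γ(E.obj.left.left, ⊤) := by
  refine Ideal.EffCartier.mem_nonZeroDivisors_of_eq_zero fun b hb => by_contra fun hb0 => ?_
  let s : sectModEt (AlgSp.unitModEt X) E := unitSect E b
  have hne : annSect s ≠ ⊤ := fun e => hb0 (by
    have := (mem_annSect_unit s 1).mp (e ▸ Submodule.mem_top)
    rwa [one_mul] at this)
  obtain ⟨m, hm, hle⟩ := Ideal.exists_le_maximal _ hne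
  obtain ⟨P, hP, -⟩ := Ideal.exists_minimalPrimes_le hle
  haveI : P.IsPrime := hP.1.1
  obtain ⟨u, hu⟩ : ∃ u, primeAtPt E.obj.left.left u = P := by
    obtain ⟨y, hyU, hy⟩ := AssPt.Basic.exists_point_of_prime (isAffineOpen_top E.obj.left.left) P
    exact ⟨y, by rw [← hy, IsAffineOpen.primeIdealOf_eq_map_closedPoint]; rfl⟩
  have hmem := h u ⟨s, hu ▸ hP⟩
  have htP : t ∈ P := hP.1.2 ((mem_annSect_unit s t).mpr hb)
  rw [Scheme.mem_basicOpen_top] at hmem
  exact (hu ▸ htP : t ∈ primeAtPt E.obj.left.left u) hmem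

/-- Inverse images under a morphism sending no weakly associated point into the divisor. -/
theorem isEffCartierSub_of_weakAss {Y D P : Sp S} {i : D ⟶ Y} {j : P ⟶ X} {f : X ⟶ Y}
    (hX : IsAlgSpace X) (hY : IsAlgSpace Y) (hD : IsEffCartierSub i)
    (h : ∀ x ∈ AlgSp.WeakAssEt (AlgSp.unitModEt X), Points.map f x ∉ Set.range (Points.map i))
    {fst : P ⟶ D} (sq : IsPullback fst j i f) : IsEffCartierSub j := by
  obtain ⟨hi, V, ψ, I, he, hs, hI, hEff⟩ := isEffCartierSub_iff.1 hD
  obtain ⟨U, a, h', ha, has, w⟩ := LocP.exists_chart_over hX hY f he hs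
  refine isEffCartierSub_iff.2 ⟨repWith_baseChange sq hi, U, a, I.comap h'.left, ha, has, ?_,
    Ideal.EffCartier.isEffCartier_comap h'.left hEff fun O s _ hOs x hx => ?_⟩
  · rw [cut_iff_of_isPullback sq, w]
    exact hI.comap h'
  obtain ⟨W, hW, hxW, hle⟩ := exists_isAffineOpen_mem_and_subset hx
  have hWle : W ≤ h'.left ⁻¹ᵁ O.1 := fun z hz => hle hz
  set t := U.left.presheaf.map (homOfLE hWle).op (h'.left.app O.1 s) with ht
  let E : EtOver X := EtOver.mk ((yon S).map (openι W) ≫ a) (LocP.repWith_etale_comp (openι W) ha)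
  haveI : IsAffine E.obj.left.left := hW
  let e : Γ(U.left, W) ≃+* Γ((W : Scheme.{u}), ⊤) := W.topIso.symm.commRingCatIsoToRingEquiv
  have hnz : e t ∈ nonZeroDivisors Γ((W : Scheme.{u}), ⊤) := by
    refine mem_nonZeroDivisors_of_weakAss E fun u hu => ?_
    by_contra hb
    have hmem := h _ ⟨E, inferInstance, u, rfl, hu⟩
    refine hmem ?_
    have hb' : W.ι u ∉ U.left.basicOpen t := fun hh => hb (by
      rw [← Scheme.Opens.ι_image_basicOpen_topIso_inv] at hh
      obtain ⟨u', hu', he'⟩ := hh
      rwa [W.ι.isOpenEmbedding.injective he'] at hu')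
    have hO : h'.left (W.ι u) ∈ O.1 := hWle u.2
    have hb'' : h'.left (W.ι u) ∉ V.left.basicOpen s := fun hh => hb' (by
      rw [ht, Scheme.basicOpen_res]
      refine ⟨u.2, ?_⟩
      rw [← Scheme.preimage_basicOpen]
      exact hh)
    have hsupp : h'.left (W.ι u) ∈ I.support := by
      rw [Scheme.IdealSheafData.mem_support_iff_of_mem hO, Scheme.mem_zeroLocus_iff, hOs]
      intro r hr hzr
      obtain ⟨c, rfl⟩ := Ideal.mem_span_singleton'.mp hr
      rw [Scheme.basicOpen_mul] at hzr
      exact hb'' hzr.2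
    have : h'.left (W.ι u) ∈ Points.ofPt ψ ⁻¹' Set.range (Points.map i) := by
      rw [preimage_range_eq_support hi hI]; exact hsupp
    have e1 : Points.map f (Points.ofPt E.obj.hom u) = Points.ofPt ψ (h'.left (W.ι u)) := by
      change Points.map f (Points.ofPt ((yon S).map (openι W) ≫ a) u) = _
      rw [ofPt_yon_map_comp, Points.map_ofPt, w, ofPt_yon_map_comp]
      rfl
    rw [e1]
    exact this
  have ht' : t ∈ nonZeroDivisors Γ(U.left, W) := by
    refine Ideal.EffCartier.mem_nonZeroDivisors_of_eq_zero fun b hb => ?_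
    refine e.injective ?_
    rw [map_zero]
    refine (mul_left_mem_nonZeroDivisors_eq_zero_iff hnz).mp ?_
    rw [← map_mul, hb, map_zero]
  have h2 := Ideal.EffCartier.germ_mem_nonZeroDivisors hW ht' x hxW
  rwa [ht, TopCat.Presheaf.germ_res_apply] at h2

/-- On a reduced space the weakly associated points are the points of codimension zero. -/
theorem mem_weakAss_iff_of_reduced (hX : IsAlgSpace X) (hred : AlgSp.IsReducedSp X) (x : Points X) :
    x ∈ AlgSp.WeakAssEt (AlgSp.unitModEt X) ↔
      AlgSp.HasAt (fun U u => ringKrullDim ↥(U.presheaf.stalk u) = 0) X x := by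
  have key : ∀ (E : EtOver X) [IsAffine E.obj.left.left] (u : E.obj.left.left),
      primeAtPt E.obj.left.left u = ((isAffineOpen_top E.obj.left.left).primeIdealOf ⟨u, trivial⟩).asIdeal :=
    fun E _ u => by rw [IsAffineOpen.primeIdealOf_eq_map_closedPoint]; rfl
  have hmin : ∀ (E : EtOver X) [IsAffine E.obj.left.left] (u : E.obj.left.left),
      primeAtPt E.obj.left.left u ∈ minimalPrimes Γ(E.obj.left.left, ⊤) ↔ Codim.IsGen u := by
    intro E _ u
    rw [key, ← AssPt.Basic.maximalPoint_iff_minimalPrime (isAffineOpen_top _)]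
    exact Iff.rfl
  constructor
  · rintro ⟨E, hE, u, rfl, s, hs⟩
    haveI := hE
    haveI : IsReduced E.obj.left.left :=
      AlgSpRed.Stalk.isReduced_chart hX.diag hred E.property
    rw [Codim.hasAt_dim0_iff hX E.property, ← hmin E u]
    set p := primeAtPt E.obj.left.left u with hp
    refine ⟨⟨inferInstance, bot_le⟩, fun q hq hqp => ?_⟩
    haveI := hq.1
    set b := unitVal s with hb
    have hbp : b ∉ p := by
      intro hbp
      obtain ⟨n, c, hc, hcb⟩ := Henselian.WeakAssBaseChange.exists_mul_pow_mem hs hbp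
      rw [mem_annSect_unit] at hcb
      refine hc (hs.1.2 ((mem_annSect_unit s c).mpr ?_))
      refine IsReduced.eq_zero _ ⟨n + 1, ?_⟩
      rw [← hb, mul_pow, show c ^ (n + 1) * b ^ (n + 1) = c ^ n * (c * b ^ n * b) by ring, hcb,
        mul_zero]
    refine hs.2 ⟨hq.1, fun a ha => ?_⟩ hqp
    rw [mem_annSect_unit] at ha
    exact (hq.1.mem_or_mem (ha ▸ q.zero_mem : a * b ∈ q)).resolve_right fun h => hbp (hqp h)
  · rintro ⟨U, a, u, ha, rfl, hu⟩
    obtain ⟨W, hW, huW, -⟩ := exists_isAffineOpen_mem_and_subset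
      (show u ∈ (⊤ : U.left.Opens) from trivial)
    let E : EtOver X := EtOver.mk ((yon S).map (openι W) ≫ a) (LocP.repWith_etale_comp (openι W) ha)
    haveI : IsAffine E.obj.left.left := hW
    let u' : E.obj.left.left := (⟨u, huW⟩ : W)
    refine ⟨E, inferInstance, u', ?_, unitSect E 1, ?_⟩
    · change Points.ofPt ((yon S).map (openι W) ≫ a) u' = _
      rw [ofPt_yon_map_comp]
      rfl
    · have hann : annSect (unitSect E 1) = ⊥ := by
        ext c
        rw [mem_annSect_unit, Ideal.mem_bot, unitVal_unitSect, mul_one]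
      rw [hann]
      refine (hmin E u').2 ?_
      haveI : IsOpenImmersion W.ι := inferInstance
      exact (Codim.isGen_iff_of_etale W.ι u').1 ((Codim.dim0_iff u).1 hu)

end Groth.Agent.Lib.AlgSpDiv
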